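import Groth.Agent.TypeALib.Abstract
import Groth.Agent.S9115
import Mathlib.CategoryTheory.Sites.LocallyInjective

/-!
# Modules presented by finitely many free modules on members of a base of quasi-compact objects
-/

set_option autoImplicit false

universe u

open CategoryTheory Limits Opposite

namespace Groth.Agent.TypeALib

open _root_.ModSiteLib

noncomputable section

variable {C : Type u} [SmallCategory C] {J : GrothendieckTopology C} {O : Sheaf J CommRingCat.{u}}

/-- A jointly surjective family on sheafified representables generates a covering sieve. -/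
theorem ofArrows_mem_of_jointlySurjective {U : C} {κ : Type u} {W : κ → C} (g : ∀ k, W k ⟶ U)
    (hg : CohCx.JointlySurjective fun k => (presheafToSheaf J (Type u)).map (yoneda.map (g k))) :
    Sieve.ofArrows W g ∈ J U := by
  obtain ⟨S, hS, hS'⟩ := hg U ((toSheafify J (yoneda.obj U)).app (op U) (𝟙 U))
  refine J.transitive hS _ fun V f hf => ?_
  obtain ⟨k, z, hz⟩ := hS' V f hf
  refine J.transitive (Presheaf.imageSieve_mem J (toSheafify J (yoneda.obj (W k))) z) _ fun Z a ha => ?_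
  have h₁ : (toSheafify J (yoneda.obj U)).app (op Z) (ha.choose ≫ g k) =
      (toSheafify J (yoneda.obj U)).app (op Z) (a ≫ f) := by
    have e₁ : (toSheafify J (yoneda.obj U)).app (op Z) (ha.choose ≫ g k) =
        ((presheafToSheaf J (Type u)).map (yoneda.map (g k))).hom.app (op Z)
          ((toSheafify J (yoneda.obj (W k))).app (op Z) ha.choose) :=
      ConcreteCategory.congr_hom (NatTrans.congr_app (toSheafify_naturality J (yoneda.map (g k))) (op Z)) ha.choose
    have e₂ : ∀ {X Y : C} (b : Y ⟶ X) (s : X ⟶ U), (toSheafify J (yoneda.obj U)).app (op Y) (b ≫ s) =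
        ((presheafToSheaf J (Type u)).obj (yoneda.obj U)).obj.map b.op
          ((toSheafify J (yoneda.obj U)).app (op X) s) := fun b s =>
      NatTrans.naturality_apply (toSheafify J (yoneda.obj U)) b.op s
    rw [e₁, ha.choose_spec, e₂, show f = f ≫ 𝟙 U from (Category.comp_id f).symm, e₂, ← hz]
    exact NatTrans.naturality_apply ((presheafToSheaf J (Type u)).map (yoneda.map (g k))).hom a.op z
  refine J.superset_covering ?_ (Presheaf.equalizerSieve_mem J (toSheafify J (yoneda.obj U))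
    (X := op Z) (ha.choose ≫ g k : (yoneda.obj U).obj (op Z)) (a ≫ f : (yoneda.obj U).obj (op Z)) h₁)
  intro Z' b hb
  refine ⟨W k, b ≫ ha.choose, g k, ⟨k⟩, ?_⟩
  have hb' : b ≫ ha.choose ≫ g k = b ≫ a ≫ f := hb
  simpa using hb'

/-- The map of free modules induced by a morphism of the site. -/
def res {W U : C} (w : W ⟶ U) : ModSite.freeOn O W ⟶ ModSite.freeOn O U :=
  (freeOnEquiv _ W).symm ((ModSite.freeOn O U).val.map w.op (freeOnEquiv _ U (𝟙 _)))

theorem equiv_res {M : ModSite.Mod O} {W U : C} (w : W ⟶ U) (a : ModSite.freeOn O U ⟶ M) :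
    freeOnEquiv M W (res w ≫ a) = M.val.map w.op (freeOnEquiv M U a) := by
  refine (freeOnEquiv_comp W (res w) a).trans ?_
  rw [res, Equiv.apply_symm_apply]
  refine (PresheafOfModules.naturality_apply a.val w.op _).trans (congrArg (M.val.map w.op) ?_)
  rw [← freeOnEquiv_comp, Category.id_comp]

theorem equiv_zero {M : ModSite.Mod O} (X : C) : freeOnEquiv M X 0 = 0 := by
  have h := freeOnEquiv_comp X (0 : ModSite.freeOn O X ⟶ M) (0 : M ⟶ M)
  rw [zero_comp] at h
  exact h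

theorem map_comp_eq {M : ModSite.Mod O} {X Y Z : C} (a : Z ⟶ Y) (b : Y ⟶ X) (m : M.val.obj (op X)) :
    M.val.map (a ≫ b).op m = M.val.map a.op (M.val.map b.op m) := by
  rw [op_comp]
  exact PresheafOfModules.map_comp_apply M.val b.op a.op m

/-- Coproducts over equivalent index types are isomorphic. -/
def reindexIso {A : Type*} [Category* A] {α β : Type*} (e : α ≃ β) (f : β → A) [HasCoproduct f]
    [HasCoproduct fun a => f (e a)] : (∐ fun a => f (e a)) ≅ ∐ f where
  hom := Sigma.desc fun a => Sigma.ι f (e a)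
  inv := Sigma.desc fun b => eqToHom (congrArg f (e.apply_symm_apply b).symm) ≫ Sigma.ι (fun a => f (e a)) (e.symm b)
  hom_inv_id := by
    refine Sigma.hom_ext _ _ fun a => ?_
    simp only [Sigma.ι_desc_assoc, Sigma.ι_desc, Category.comp_id]
    have : ∀ a' (h : a' = a) (h' : f (e a) = f (e a')), eqToHom h' ≫ Sigma.ι (fun a => f (e a)) a' = Sigma.ι (fun a => f (e a)) a := by
      rintro _ rfl _; simp
    exact this _ (e.symm_apply_apply a) _
  inv_hom_id := by
    refine Sigma.hom_ext _ _ fun b => ?_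
    simp only [Sigma.ι_desc_assoc, Category.assoc, Sigma.ι_desc, Category.comp_id]
    have : ∀ b' (h : b' = b) (h' : f b = f b'), eqToHom h' ≫ Sigma.ι f b' = Sigma.ι f b := by
      rintro _ rfl _; simp
    exact this _ (e.apply_symm_apply b) _

/-- A coproduct over a sum of index types. -/
def sumIso {A : Type*} [Category* A] [Preadditive A] {α β : Type*} (f : α ⊕ β → A) [HasCoproduct f]
    [HasCoproduct fun a => f (.inl a)] [HasCoproduct fun b => f (.inr b)] [HasBinaryBiproducts A] :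
    (∐ fun a => f (.inl a)) ⊞ (∐ fun b => f (.inr b)) ≅ ∐ f where
  hom := biprod.desc (Sigma.desc fun a => Sigma.ι f (.inl a)) (Sigma.desc fun b => Sigma.ι f (.inr b))
  inv := Sigma.desc (Sum.rec (fun a => Sigma.ι (fun a => f (.inl a)) a ≫ biprod.inl)
    (fun b => Sigma.ι (fun b => f (.inr b)) b ≫ biprod.inr))
  hom_inv_id := by
    apply biprod.hom_ext' <;> refine Sigma.hom_ext _ _ fun k => ?_ <;> simp
  inv_hom_id := by
    refine Sigma.hom_ext _ _ fun c => ?_
    rcases c with k | k <;> simp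

variable (O) in
/-- Finite sums of free modules on members of `B`. -/
def IsFree (B : Set C) (P : ModSite.Mod O) : Prop :=
  ∃ (κ : Type u) (_ : Finite κ) (U : κ → C), (∀ k, U k ∈ B) ∧ Nonempty (P ≅ ∐ fun k => ModSite.freeOn O (U k))

variable (B : Set C)
  (hB₁ : ∀ X : C, ∃ (κ : Type u) (Y : κ → C) (g : ∀ k, Y k ⟶ X), Sieve.ofArrows Y g ∈ J X ∧ ∀ k, Y k ∈ B)
  (hB₂ : ∀ U ∈ B, CohCx.IsQcObject ((presheafToSheaf J (Type u)).obj (yoneda.obj U)))
  [HasPullbacks C]
  (hB₃ : ∀ (U U₁ U₂ : C) (f₁ : U₁ ⟶ U) (f₂ : U₂ ⟶ U), U ∈ B → U₁ ∈ B → U₂ ∈ B →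
    CohCx.IsQcObject ((presheafToSheaf J (Type u)).obj (yoneda.obj (pullback f₁ f₂))))

theorem isFree_sum {X Y : ModSite.Mod O} (hX : IsFree O B X) (hY : IsFree O B Y) : IsFree O B (X ⊞ Y) := by
  obtain ⟨κ, _, U, hU, ⟨e⟩⟩ := hX
  obtain ⟨κ', _, V, hV, ⟨e'⟩⟩ := hY
  refine ⟨κ ⊕ κ', inferInstance, Sum.elim U V, by rintro (k | k); exacts [hU k, hV k], ⟨?_⟩⟩
  exact biprod.mapIso e e' ≪≫ sumIso (fun c => ModSite.freeOn O (Sum.elim U V c))

include hB₁ hB₂ hB₃ in
theorem good : Good (IsFree O B) where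
  sum := isFree_sum B
  lift := by
    intro M N π _ X hX f
    obtain ⟨ι₀, hfin₀, U, hU, ⟨e⟩⟩ := hX
    let t (i : ι₀) : N.val.obj (op (U i)) :=
      freeOnEquiv N (U i) (Sigma.ι (fun i => ModSite.freeOn O (U i)) i ≫ e.inv ≫ f)
    choose S hS hlift using fun i => Groth.Agent.S9115.loc_lift π (t i)
    choose κ hfin W g hW hgS hjs using fun i =>
      Groth.Agent.S9115.exists_finite_refinement B hB₁ (hB₂ _ (hU i)) (S i) (hS i)
    choose p hp using fun i k => hlift i (g i k) (hgS i k)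
    let K := Σ i, κ i
    let pb : (Σ i, κ i × κ i) → C := fun a => pullback (g a.1 a.2.1) (g a.1 a.2.2)
    choose μ hμ V v hV _ hvjs using fun a : Σ i, κ i × κ i =>
      Groth.Agent.S9115.exists_finite_refinement B hB₁ (U := pb a) (hB₃ _ _ _ _ _ (hU _) (hW _ _) (hW _ _)) ⊤
        (J.top_mem _)
    let F : K → ModSite.Mod O := fun a => ModSite.freeOn O (W a.1 a.2)
    let G : (Σ a, μ a) → ModSite.Mod O := fun b => ModSite.freeOn O (V b.1 b.2)
    let r : (∐ F) ⟶ X := Sigma.desc fun a => res (g a.1 a.2) ≫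
      Sigma.ι (fun i => ModSite.freeOn O (U i)) a.1 ≫ e.inv
    let f' : (∐ F) ⟶ M := Sigma.desc fun a => (freeOnEquiv M _).symm (p a.1 a.2)
    let d : (∐ G) ⟶ ∐ F := Sigma.desc fun b =>
      res (v b.1 b.2 ≫ pullback.fst (g b.1.1 b.1.2.1) (g b.1.1 b.1.2.2)) ≫ Sigma.ι F ⟨b.1.1, b.1.2.1⟩ -
        res (v b.1 b.2 ≫ pullback.snd (g b.1.1 b.1.2.1) (g b.1.1 b.1.2.2)) ≫ Sigma.ι F ⟨b.1.1, b.1.2.2⟩
    have hcov : ∀ i, Sieve.ofArrows (W i) (g i) ∈ J (U i) := fun i =>
      ofArrows_mem_of_jointlySurjective (g i) (hjs i)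
    have hr : Epi r := by
      refine Preadditive.epi_of_cancel_zero r fun {T} z hz => ?_
      rw [← cancel_epi e.inv, comp_zero]
      refine Sigma.hom_ext _ _ fun i => (freeOnEquiv T (U i)).injective ?_
      refine Groth.Agent.S9115.sec_ext_of_jointlySurjective T (g i) (hjs i) _ _ fun k => ?_
      have h := congrArg (fun x => freeOnEquiv T (W i k) (Sigma.ι F ⟨i, k⟩ ≫ x)) hz
      simp only [r, Sigma.ι_desc_assoc, comp_zero, Category.assoc, equiv_res, equiv_zero] at h
      rw [h, comp_zero, equiv_zero, map_zero]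
      rfl
    have w : d ≫ r = 0 := by
      refine Sigma.hom_ext _ _ fun b => ?_
      simp only [d, r, Sigma.ι_desc_assoc, Preadditive.sub_comp, Category.assoc, Sigma.ι_desc, comp_zero]
      refine sub_eq_zero.2 ((freeOnEquiv _ _).injective ?_)
      rw [equiv_res, equiv_res, equiv_res, equiv_res, ← map_comp_eq, ← map_comp_eq, Category.assoc,
        Category.assoc, pullback.condition]
    refine ⟨∐ F, r, f', ∐ G, d, w, ⟨K, inferInstance, fun a => W a.1 a.2, fun a => hW _ _, ⟨Iso.refl _⟩⟩,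
      ⟨Σ a, μ a, inferInstance, fun b => V b.1 b.2, fun b => hV _ _, ⟨Iso.refl _⟩⟩, hr, ?_, ?_⟩
    · refine Sigma.hom_ext _ _ fun a => (freeOnEquiv _ _).injective ?_
      simp only [f', r, Sigma.ι_desc_assoc, Category.assoc, equiv_res]
      rw [freeOnEquiv_comp, Equiv.apply_symm_apply]
      exact hp a.1 a.2
    · haveI := hr
      refine ShortComplex.exact_of_g_is_cokernel _ (CokernelCofork.IsColimit.ofπ' r w fun {T} z hz => ?_)
      let s (i : ι₀) (k : κ i) : T.val.obj (op (W i k)) := freeOnEquiv T (W i k) (Sigma.ι F ⟨i, k⟩ ≫ z)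
      have hpb : ∀ (i : ι₀) (k l : κ i), T.val.map (pullback.fst (g i k) (g i l)).op (s i k) =
          T.val.map (pullback.snd (g i k) (g i l)).op (s i l) := by
        intro i k l
        refine Groth.Agent.S9115.sec_ext_of_jointlySurjective T (U := pb ⟨i, k, l⟩) (v ⟨i, k, l⟩)
          (hvjs ⟨i, k, l⟩) _ _ fun m => ?_
        have h := Sigma.ι G ⟨⟨i, k, l⟩, m⟩ ≫= hz
        simp only [d, Sigma.ι_desc_assoc, Preadditive.sub_comp, Category.assoc, comp_zero, sub_eq_zero] at h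
        have h' := congrArg (freeOnEquiv T _) h
        rw [equiv_res, equiv_res] at h'
        rw [← map_comp_eq, ← map_comp_eq]
        exact h'
      have hT : Presieve.IsSheaf J (((sheafCompose J (forget AddCommGrpCat.{u})).obj (ModSite.toAb T))).obj :=
        (isSheaf_iff_isSheaf_of_type _ _).1
          ((sheafCompose J (forget AddCommGrpCat.{u})).obj (ModSite.toAb T)).property
      have hglue : ∀ i, ∃ y : T.val.obj (op (U i)), ∀ k, T.val.map (g i k).op y = s i k := by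
        intro i
        have h1 := (Presieve.isSheafFor_iff_generate _).2 (hT _ (hcov i))
        obtain ⟨y, hy, -⟩ := (Presieve.isSheafFor_arrows_iff _ _).1 h1 (s i) fun k l Z a b hab => by
          show T.val.map a.op (s i k) = T.val.map b.op (s i l)
          rw [← pullback.lift_fst a b hab, map_comp_eq, hpb, ← map_comp_eq, pullback.lift_snd]
        exact ⟨y, hy⟩
      choose y hy using hglue
      refine ⟨e.hom ≫ Sigma.desc fun i => (freeOnEquiv T (U i)).symm (y i), ?_⟩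
      refine Sigma.hom_ext _ _ fun a => (freeOnEquiv T _).injective ?_
      simp only [r, Sigma.ι_desc_assoc, Category.assoc, Iso.inv_hom_id_assoc, Sigma.ι_desc, equiv_res,
        Equiv.apply_symm_apply]
      exact hy a.1 a.2

/-- A cokernel of free modules on members of `B` is presented, and conversely. -/
theorem pres_iff (F : ModSite.Mod O) : Pres (IsFree O B) F ↔
    ∃ (m' n' : ℕ) (V' : Fin m' → C) (U' : Fin n' → C)
      (ψ : (∐ fun j => ModSite.freeOn O (V' j)) ⟶ ∐ fun i => ModSite.freeOn O (U' i)),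
      (∀ j, V' j ∈ B) ∧ (∀ i, U' i ∈ B) ∧ Nonempty (F ≅ cokernel ψ) := by
  constructor
  · rintro ⟨Q, X, L, h, w, ⟨κ, _, V, hV, ⟨eQ⟩⟩, ⟨κ', _, U, hU, ⟨eX⟩⟩, hh, hS⟩
    haveI := hh
    obtain ⟨m, ⟨a⟩⟩ := Finite.exists_equiv_fin κ
    obtain ⟨n, ⟨b⟩⟩ := Finite.exists_equiv_fin κ'
    let eQ' : Q ≅ ∐ fun j => ModSite.freeOn O (V (a.symm j)) :=
      eQ ≪≫ (reindexIso a.symm fun k => ModSite.freeOn O (V k)).symm
    let eX' : X ≅ ∐ fun j => ModSite.freeOn O (U (b.symm j)) :=
      eX ≪≫ (reindexIso b.symm fun k => ModSite.freeOn O (U k)).symm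
    exact ⟨m, n, fun j => V (a.symm j), fun j => U (b.symm j), eQ'.inv ≫ L ≫ eX'.hom,
      fun j => hV _, fun j => hU _, ⟨IsColimit.coconePointUniqueUpToIso hS.gIsCokernel (colimit.isColimit _) ≪≫
        cokernel.mapIso L (eQ'.inv ≫ L ≫ eX'.hom) eQ' eX' (by simp)⟩⟩
  · rintro ⟨m, n, V, U, ψ, hV, hU, ⟨e⟩⟩
    refine ⟨_, _, ψ, cokernel.π ψ ≫ e.inv, by simp, ⟨ULift.{u} (Fin m), inferInstance, fun j => V j.down,
      fun j => hV _, ⟨(reindexIso (Equiv.ulift.{u}) fun j => ModSite.freeOn O (V j)).symm⟩⟩,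
      ⟨ULift.{u} (Fin n), inferInstance, fun j => U j.down, fun j => hU _,
        ⟨(reindexIso (Equiv.ulift.{u}) fun j => ModSite.freeOn O (U j)).symm⟩⟩, inferInstance, ?_⟩
    refine ShortComplex.exact_of_g_is_cokernel _ (CokernelCofork.IsColimit.ofπ' _ _ fun {M} z hz =>
      ⟨e.hom ≫ cokernel.desc ψ z hz, by simp⟩)


/-- Kernels between objects of the class, from kernels between sums indexed by `Fin`. -/
theorem pres_kernel_free
    (hker : ∀ (m n : ℕ) (V : Fin m → C) (U : Fin n → C)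
      (φ : (∐ fun j => ModSite.freeOn O (V j)) ⟶ ∐ fun i => ModSite.freeOn O (U i)),
      (∀ j, V j ∈ B) → (∀ i, U i ∈ B) → (∃ (m' n' : ℕ) (V' : Fin m' → C) (U' : Fin n' → C)
        (ψ : (∐ fun j => ModSite.freeOn O (V' j)) ⟶ ∐ fun i => ModSite.freeOn O (U' i)),
        (∀ j, V' j ∈ B) ∧ (∀ i, U' i ∈ B) ∧ Nonempty (kernel φ ≅ cokernel ψ)))
    {X Y : ModSite.Mod O} (φ : X ⟶ Y) (hX : IsFree O B X) (hY : IsFree O B Y) :
    Pres (IsFree O B) (kernel φ) := by
  obtain ⟨κ, _, V, hV, ⟨eX⟩⟩ := hX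
  obtain ⟨κ', _, U, hU, ⟨eY⟩⟩ := hY
  obtain ⟨m, ⟨a⟩⟩ := Finite.exists_equiv_fin κ
  obtain ⟨n, ⟨b⟩⟩ := Finite.exists_equiv_fin κ'
  let eX' : X ≅ ∐ fun j => ModSite.freeOn O (V (a.symm j)) :=
    eX ≪≫ (reindexIso a.symm fun k => ModSite.freeOn O (V k)).symm
  let eY' : Y ≅ ∐ fun j => ModSite.freeOn O (U (b.symm j)) :=
    eY ≪≫ (reindexIso b.symm fun k => ModSite.freeOn O (U k)).symm
  obtain ⟨m', n', V', U', ψ, hV', hU', ⟨e⟩⟩ :=
    hker m n _ _ (eX'.inv ≫ φ ≫ eY'.hom) (fun _ => hV _) (fun _ => hU _)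
  exact (pres_iff B _).2 ⟨m', n', V', U', ψ, hV', hU',
    ⟨kernel.mapIso φ (eX'.inv ≫ φ ≫ eY'.hom) eX' eY' (by simp) ≪≫ e⟩⟩

end

end Groth.Agent.TypeALib
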