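import Mathlib.CategoryTheory.Abelian.Refinements
import Mathlib.Algebra.Homology.ShortComplex.ShortExact

/-!
# Objects presented by a class of generators closed under lifting on covers
-/

set_option autoImplicit false
set_option linter.unusedSectionVars false

universe w v

open CategoryTheory Limits

namespace Groth.Agent.TypeALib

variable {A : Type w} [Category.{v} A] [Abelian A]

/-- A class of objects closed under binary sums in which maps lift on presented covers. -/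
structure Good (P : A → Prop) : Prop where
  sum : ∀ {X Y : A}, P X → P Y → P (X ⊞ Y)
  lift : ∀ {M N : A} (π : M ⟶ N) [Epi π] {X : A}, P X → ∀ f : X ⟶ N,
    ∃ (X' : A) (r : X' ⟶ X) (f' : X' ⟶ M) (Q : A) (d : Q ⟶ X') (w : d ≫ r = 0),
      P X' ∧ P Q ∧ Epi r ∧ f' ≫ π = r ≫ f ∧ (ShortComplex.mk d r w).Exact

/-- `F` is the cokernel of a map between objects in the class. -/
def Pres (P : A → Prop) (F : A) : Prop :=
  ∃ (Q X : A) (L : Q ⟶ X) (h : X ⟶ F) (w : L ≫ h = 0),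
    P Q ∧ P X ∧ Epi h ∧ (ShortComplex.mk L h w).Exact

variable {P : A → Prop}

theorem exact_of_refinements {Q X F : A} (L : Q ⟶ X) (h : X ⟶ F) (w : L ≫ h = 0)
    (H : ∀ ⦃T : A⦄ (x : T ⟶ X), x ≫ h = 0 →
      ∃ (T' : A) (π : T' ⟶ T) (_ : Epi π) (q : T' ⟶ Q), π ≫ x = q ≫ L) :
    (ShortComplex.mk L h w).Exact :=
  (ShortComplex.exact_iff_exact_up_to_refinements _).2 H

theorem refine_of_exact {Q X F : A} {L : Q ⟶ X} {h : X ⟶ F} {w : L ≫ h = 0}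
    (hS : (ShortComplex.mk L h w).Exact) {T : A} (x : T ⟶ X) (hx : x ≫ h = 0) :
    ∃ (T' : A) (π : T' ⟶ T) (_ : Epi π) (q : T' ⟶ Q), π ≫ x = q ≫ L :=
  (ShortComplex.exact_iff_exact_up_to_refinements _).1 hS x hx

/-- The kernel of any cover of a presented object by an object of the class is generated by one. -/
theorem gen_ker (hP : Good P) {F : A} (hF : Pres P F) {X : A} (hX : P X) (h : X ⟶ F) [Epi h] :
    ∃ (Q : A) (L : Q ⟶ X) (w : L ≫ h = 0), P Q ∧ (ShortComplex.mk L h w).Exact := by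
  obtain ⟨R, X₀, L₀, h₀, w₀, hR, hX₀, hh₀, e₀⟩ := hF
  obtain ⟨X₁, r₁, b, D₁, d₁, wd₁, hX₁, hD₁, hr₁, hb, ed₁⟩ := hP.lift h hX₀ h₀
  obtain ⟨X₂, r, a, D₂, d₂, wd₂, hX₂, -, hr, ha, -⟩ := hP.lift (r₁ ≫ h₀) hX h
  obtain ⟨R', rR, l, D₃, d₃, wd₃, hR', -, hrR, hl, -⟩ := hP.lift r₁ hR L₀
  let L : X₂ ⊞ (D₁ ⊞ R') ⟶ X := biprod.desc (r - a ≫ b) (biprod.desc (d₁ ≫ b) (l ≫ b))
  have w : L ≫ h = 0 := by
    apply biprod.hom_ext'
    · simp [L, hb, ha]
    · apply biprod.hom_ext'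
      · simp [L, hb, reassoc_of% wd₁]
      · simp [L, hb, reassoc_of% hl, w₀]
  refine ⟨_, L, w, hP.sum hX₂ (hP.sum hD₁ hR'), ShortComplex.exact_of_g_is_cokernel _
    (CokernelCofork.IsColimit.ofπ' h w fun {M} z hz => ?_)⟩
  have h₁ : r ≫ z = a ≫ b ≫ z := by
    have := biprod.inl ≫= hz
    simp [L] at this
    exact sub_eq_zero.1 this
  have h₂ : d₁ ≫ b ≫ z = 0 := by
    have := (biprod.inl ≫ biprod.inr) ≫= hz
    simpa [L] using this
  have h₃ : l ≫ b ≫ z = 0 := by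
    have := (biprod.inr ≫ biprod.inr) ≫= hz
    simpa [L] using this
  haveI := hh₀
  haveI := hr₁
  have h₄ : r₁ ≫ ed₁.desc (b ≫ z) h₂ = b ≫ z := ed₁.g_desc _ _
  have h₅ : L₀ ≫ ed₁.desc (b ≫ z) h₂ = 0 := by
    rw [← cancel_epi rR, ← reassoc_of% hl, h₄, comp_zero]
    exact h₃
  have h₆ : h₀ ≫ e₀.desc (ed₁.desc (b ≫ z) h₂) h₅ = ed₁.desc (b ≫ z) h₂ := e₀.g_desc _ _
  refine ⟨e₀.desc _ h₅, ?_⟩
  rw [← cancel_epi r, ← reassoc_of% ha, h₆, h₄, h₁]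

/-- Extensions of presented objects are presented. -/
theorem pres_of_shortExact (hP : Good P) {S : ShortComplex A} (hS : S.ShortExact)
    (h₁ : Pres P S.X₁) (h₃ : Pres P S.X₃) : Pres P S.X₂ := by
  haveI := hS.mono_f
  haveI := hS.epi_g
  obtain ⟨Q₁, X₁, L₁, p₁, w₁, hQ₁, hX₁, hp₁, e₁⟩ := h₁
  obtain ⟨-, X₀, -, p₀, -, -, hX₀, hp₀, -⟩ := id h₃
  obtain ⟨X₃, r₃, g, -, -, -, hX₃, -, hr₃, hg, -⟩ := hP.lift S.g hX₀ p₀
  obtain ⟨Q₀, L₃, w₃, hQ₀, e₃⟩ := gen_ker hP h₃ hX₃ (r₃ ≫ p₀)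
  have hz : (L₃ ≫ g) ≫ S.g = 0 := by rw [Category.assoc, hg, w₃]
  have ht : hS.exact.lift (L₃ ≫ g) hz ≫ S.f = L₃ ≫ g := hS.exact.lift_f _ _
  obtain ⟨Q₃, r, v, -, -, -, hQ₃, -, hr, hv, -⟩ := hP.lift p₁ hQ₀ (hS.exact.lift (L₃ ≫ g) hz)
  let L : Q₁ ⊞ Q₃ ⟶ X₁ ⊞ X₃ := biprod.desc (L₁ ≫ biprod.inl) (r ≫ L₃ ≫ biprod.inr - v ≫ biprod.inl)
  let p : X₁ ⊞ X₃ ⟶ S.X₂ := biprod.desc (p₁ ≫ S.f) g
  have w : L ≫ p = 0 := by
    apply biprod.hom_ext'
    · simp [L, p, reassoc_of% w₁]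
    · simp [L, p, reassoc_of% hv, ht]
  have hpe : Epi p := Preadditive.epi_of_cancel_zero p fun {M} z hz => by
    have a : p₁ ≫ S.f ≫ z = 0 := by simpa [p] using biprod.inl ≫= hz
    have b : g ≫ z = 0 := by simpa [p] using biprod.inr ≫= hz
    have a' : S.f ≫ z = 0 := by rw [← cancel_epi p₁, a, comp_zero]
    have : hS.exact.desc z a' = 0 := by
      rw [← cancel_epi (r₃ ≫ p₀), ← hg, Category.assoc, hS.exact.g_desc, b, comp_zero]
    rw [← hS.exact.g_desc z a', this, comp_zero]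
  refine ⟨_, _, L, p, w, hP.sum hQ₁ hQ₃, hP.sum hX₁ hX₃, hpe, exact_of_refinements L p w fun T x hx => ?_⟩
  have hx' : (x ≫ biprod.fst) ≫ p₁ ≫ S.f + (x ≫ biprod.snd) ≫ g = 0 := by
    simpa [p, biprod.desc_eq] using hx
  have h₃' : (x ≫ biprod.snd) ≫ r₃ ≫ p₀ = 0 := by
    have := hx' =≫ S.g
    simpa [hg] using this
  obtain ⟨T₁, π₁, _, q, hq⟩ := refine_of_exact e₃ _ h₃'
  obtain ⟨T₂, π₂, _, q', hq'⟩ := surjective_up_to_refinements_of_epi r q
  have hk : ((π₂ ≫ π₁ ≫ x ≫ biprod.fst) + q' ≫ v) ≫ p₁ = 0 := by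
    rw [← cancel_mono S.f, zero_comp]
    simp only [Preadditive.add_comp, Category.assoc, reassoc_of% hv]
    rw [← reassoc_of% hq', ht, ← reassoc_of% hq, ← Preadditive.comp_add, ← Preadditive.comp_add]
    simp only [Category.assoc] at hx'
    rw [hx', comp_zero, comp_zero]
  obtain ⟨T₃, π₃, _, q₁, hq₁⟩ := refine_of_exact e₁ _ hk
  refine ⟨T₃, π₃ ≫ π₂ ≫ π₁, inferInstance, biprod.lift q₁ (π₃ ≫ q'), ?_⟩
  apply biprod.hom_ext
  · simp only [L, biprod.lift_desc, Preadditive.comp_sub, Preadditive.add_comp, Preadditive.sub_comp,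
      Category.assoc, biprod.inl_fst, biprod.inr_fst, comp_zero, Category.comp_id]
    rw [← hq₁, Preadditive.comp_add]
    abel
  · simp only [L, biprod.lift_desc, Preadditive.comp_sub, Preadditive.add_comp, Preadditive.sub_comp,
      Category.assoc, biprod.inl_snd, biprod.inr_snd, comp_zero, Category.comp_id, zero_add, sub_zero]
    rw [← reassoc_of% hq', ← hq]

/-- Kernels between presented objects are presented, if kernels between objects of the class are. -/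
theorem pres_kernel (hP : Good P) (hker : ∀ {X Y : A} (φ : X ⟶ Y), P X → P Y → Pres P (kernel φ))
    {F G : A} (α : F ⟶ G) (hF : Pres P F) (hG : Pres P G) : Pres P (kernel α) := by
  have gen : ∀ {X Y : A} (φ : X ⟶ Y), P X → P Y →
      ∃ (Q : A) (ι : Q ⟶ X) (w : ι ≫ φ = 0), P Q ∧ (ShortComplex.mk ι φ w).Exact := by
    intro X Y φ hX hY
    obtain ⟨-, Q, -, h, -, -, hQ, hh, -⟩ := hker φ hX hY
    refine ⟨Q, h ≫ kernel.ι φ, by simp, hQ, exact_of_refinements _ _ _ fun T x hx => ?_⟩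
    obtain ⟨T', π, hπ, q, hq⟩ := surjective_up_to_refinements_of_epi h (kernel.lift φ x hx)
    exact ⟨T', π, hπ, q, by rw [← reassoc_of% hq, kernel.lift_ι]⟩
  obtain ⟨-, XF₀, -, pF₀, -, -, hXF₀, hpF₀, -⟩ := id hF
  obtain ⟨RG, XG, LG, pG, wG, hRG, hXG, hpG, eG⟩ := hG
  obtain ⟨X, r, a, -, -, -, hX, -, hr, ha, -⟩ := hP.lift pG hXF₀ (pF₀ ≫ α)
  obtain ⟨QF, LF, wF, hQF, eF⟩ := gen_ker hP hF hX (r ≫ pF₀)
  obtain ⟨Q, ι, wι, hQ, eι⟩ := gen (biprod.desc a LG) (hP.sum hX hRG) hXG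
  obtain ⟨Q₂, ι₂, wι₂, hQ₂, e₂⟩ := gen (biprod.desc (ι ≫ biprod.fst) LF) (hP.sum hQ hQF) hX
  have hzero : ((ι ≫ biprod.fst) ≫ r ≫ pF₀) ≫ α = 0 := by
    have h := wι =≫ pG
    simp only [biprod.desc_eq, Preadditive.comp_add, Preadditive.add_comp, Category.assoc, wG,
      comp_zero, add_zero, zero_comp, ha] at h
    simpa only [Category.assoc] using h
  let k : Q ⟶ kernel α := kernel.lift α _ hzero
  have hk : k ≫ kernel.ι α = (ι ≫ biprod.fst) ≫ r ≫ pF₀ := kernel.lift_ι _ _ _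
  have w₂ : (ι₂ ≫ biprod.fst) ≫ k = 0 := by
    have h := wι₂ =≫ (r ≫ pF₀)
    simp only [biprod.desc_eq, Preadditive.comp_add, Preadditive.add_comp, Category.assoc, wF,
      comp_zero, add_zero, zero_comp] at h
    rw [← cancel_mono (kernel.ι α), Category.assoc, hk, zero_comp]
    simpa only [Category.assoc] using h
  have hke : Epi k := (epi_iff_surjective_up_to_refinements k).2 fun T y => by
    obtain ⟨T₁, π₁, _, x, hx⟩ := surjective_up_to_refinements_of_epi (r ≫ pF₀) (y ≫ kernel.ι α)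
    have hx' : (x ≫ a) ≫ pG = 0 := by
      rw [Category.assoc, ha]
      rw [← reassoc_of% hx, kernel.condition, comp_zero, comp_zero]
    obtain ⟨T₂, π₂, _, q, hq⟩ := refine_of_exact eG _ hx'
    obtain ⟨T₃, π₃, _, s, hs⟩ := refine_of_exact eι (biprod.lift (π₂ ≫ x) (-q)) (by
      simp [Category.assoc, hq])
    refine ⟨T₃, π₃ ≫ π₂ ≫ π₁, inferInstance, s, ?_⟩
    rw [← cancel_mono (kernel.ι α)]
    simp only [Category.assoc, hk, hx]
    rw [← reassoc_of% hs]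
    simp
  refine ⟨_, _, ι₂ ≫ biprod.fst, k, w₂, hQ₂, hQ, hke, exact_of_refinements _ _ _ fun T q hq => ?_⟩
  have hq' : (q ≫ ι ≫ biprod.fst) ≫ r ≫ pF₀ = 0 := by
    have := hq =≫ kernel.ι α
    simpa [hk] using this
  obtain ⟨T₁, π₁, _, v, hv⟩ := refine_of_exact eF _ hq'
  obtain ⟨T₂, π₂, _, s, hs⟩ := refine_of_exact e₂ (biprod.lift (π₁ ≫ q) (-v)) (by
    simp only [biprod.lift_desc, Category.assoc]
    rw [hv, Preadditive.neg_comp, add_neg_cancel])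
  refine ⟨T₂, π₂ ≫ π₁, inferInstance, s, ?_⟩
  rw [← reassoc_of% hs]
  simp

end Groth.Agent.TypeALib
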